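import Mathlib
import Cfsg.Agent.MinSimple.VModule
import Cfsg.Agent.MinSimple.Basic

section


/-!
# Commuting idempotents permuted by a 2-group (bb OMEGA 18061, (A1), (A4))

A 2-group `𝒮` acts on the elementary abelian 2-group `F ≤ A`; commuting idempotents `ε l` of `F` are permuted by
`𝒮`; the only nonzero `𝒮`-fixed vector of `F` is `z = ∑ v l` with `ε l (v l) = 0`, `ε l (v m) = v m` (`m ≠ l`).
Then the complementary idempotents `1 + ε l` are orthogonal with sum `1`.
-/

set_option autoImplicit false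

namespace Cfsg.Agent.Omega.IId.SymTwo5

/-- a nonzero invariant subgroup contains a nonzero fixed vector of a 2-group -/
theorem exists_fixed {A 𝒮 : Type*} [AddCommGroup A] [Finite A] [Group 𝒮] [DistribMulAction 𝒮 A]
    (h2 : ∀ a : A, a + a = 0) (hS : IsPGroup 2 𝒮) {B : AddSubgroup A}
    (hB : ∀ s : 𝒮, ∀ b ∈ B, s • b ∈ B) (hne : B ≠ ⊥) : ∃ b ∈ B, b ≠ 0 ∧ ∀ s : 𝒮, s • b = b := by
  have : Fact (Nat.Prime 2) := ⟨Nat.prime_two⟩
  let act : MulAction 𝒮 B :=
    { smul := fun s b => ⟨s • (b : A), hB s b b.2⟩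
      one_smul := fun b => Subtype.ext (one_smul _ _)
      mul_smul := fun s t b => Subtype.ext (mul_smul _ _ _) }
  have hsm : ∀ (s : 𝒮) (b : B), ((s • b : B) : A) = s • (b : A) := fun _ _ => rfl
  obtain ⟨b, hb0⟩ := AddSubgroup.ne_bot_iff_exists_ne_zero.1 hne
  have hdvd : 2 ∣ Nat.card B := by
    have h1 : addOrderOf b = 2 := by
      refine addOrderOf_eq_prime ?_ hb0
      rw [two_nsmul]
      exact Subtype.ext (h2 b)
    rw [← h1]
    exact addOrderOf_dvd_natCard _
  obtain ⟨c, hc, hc0⟩ := hS.exists_fixed_point_of_prime_dvd_card_of_fixed_point B hdvd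
    (a := (0 : B)) (fun s => Subtype.ext (by rw [hsm]; exact smul_zero _))
  refine ⟨c, c.2, fun h => hc0 (Subtype.ext h.symm), fun s => ?_⟩
  have h3 := hc s
  have h4 := congrArg Subtype.val h3
  rwa [hsm] at h4

/-- the data of (A1), (A4) -/
structure IDat {A ι 𝒮 : Type*} [AddCommGroup A] [Fintype ι] [Group 𝒮] [DistribMulAction 𝒮 A]
    (F : AddSubgroup A) (ε : ι → A →+ A) (σ : 𝒮 → ι → ι) (v : ι → A) : Prop where
  two : ∀ a : A, a + a = 0
  s2 : IsPGroup 2 𝒮
  inv : ∀ s : 𝒮, ∀ a ∈ F, s • a ∈ F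
  mem : ∀ l, ∀ a ∈ F, ε l a ∈ F
  idem : ∀ l, ∀ a ∈ F, ε l (ε l a) = ε l a
  comm : ∀ l m, ∀ a ∈ F, ε l (ε m a) = ε m (ε l a)
  perm : ∀ (s : 𝒮) l, ∀ a ∈ F, s • ε l a = ε (σ s l) (s • a)
  inj : ∀ (s : 𝒮) l m, σ s l = σ s m → l = m
  vF : ∀ l, v l ∈ F
  v0 : ∀ l, v l ≠ 0
  vl : ∀ l, ε l (v l) = 0
  vm : ∀ l m, l ≠ m → ε l (v m) = v m
  fix : ∀ a ∈ F, (∀ s : 𝒮, s • a = a) → a = 0 ∨ a = ∑ l, v l

namespace IDat

variable {A ι 𝒮 : Type*} [AddCommGroup A] [Finite A] [Fintype ι] [Group 𝒮] [DistribMulAction 𝒮 A]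
  {F : AddSubgroup A} {ε : ι → A →+ A} {σ : 𝒮 → ι → ι} {v : ι → A}

/-- composition of the `ε l`, `l` in a list -/
def eL (ε : ι → A →+ A) : List ι → A →+ A
  | [] => AddMonoidHom.id A
  | l :: L => (ε l).comp (eL ε L)

omit [Finite A] in
theorem eL_mem (D : IDat F ε σ v) (L : List ι) {a : A} (ha : a ∈ F) : eL ε L a ∈ F := by
  induction L with
  | nil => exact ha
  | cons l L ih => exact D.mem l _ ih

omit [Finite A] in
theorem eL_comm (D : IDat F ε σ v) (L : List ι) (m : ι) {a : A} (ha : a ∈ F) :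
    eL ε L (ε m a) = ε m (eL ε L a) := by
  induction L with
  | nil => rfl
  | cons l L ih =>
    change ε l (eL ε L (ε m a)) = ε m (ε l (eL ε L a))
    rw [ih, D.comm _ _ _ (D.eL_mem L ha)]

omit [Finite A] in
theorem eL_kill (D : IDat F ε σ v) (L : List ι) {m : ι} (hm : m ∈ L) {a : A} (ha : a ∈ F) :
    eL ε L (a + ε m a) = 0 := by
  induction L with
  | nil => exact absurd hm (List.not_mem_nil)
  | cons l L ih =>
    change ε l (eL ε L (a + ε m a)) = 0
    rcases List.mem_cons.1 hm with rfl | hm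
    · rw [map_add, eL_comm D L m ha, map_add, D.idem m _ (D.eL_mem L ha), D.two]
    · rw [ih hm, map_zero]

omit [Finite A] in
theorem eL_v (D : IDat F ε σ v) (L : List ι) {m : ι} (hm : m ∉ L) : eL ε L (v m) = v m := by
  induction L with
  | nil => rfl
  | cons l L ih =>
    change ε l (eL ε L (v m)) = v m
    rw [ih fun h => hm (List.mem_cons_of_mem _ h), D.vm l m fun h => hm (h ▸ List.mem_cons_self)]

omit [Finite A] in
theorem eL_v0 (D : IDat F ε σ v) (L : List ι) {m : ι} (hm : m ∈ L) : eL ε L (v m) = 0 := by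
  have h := D.eL_kill L hm (D.vF m)
  rwa [D.vl, add_zero] at h

/-- nothing is fixed by all `ε l` -/
theorem eq_zero (D : IDat F ε σ v) {a : A} (ha : a ∈ F) (h : ∀ l, ε l a = a) : a = 0 := by
  let B : AddSubgroup A :=
    { carrier := {a | a ∈ F ∧ ∀ l, ε l a = a}
      zero_mem' := ⟨zero_mem _, fun l => map_zero _⟩
      add_mem' := fun {a b} ha hb => ⟨add_mem ha.1 hb.1, fun l => by rw [map_add, ha.2, hb.2]⟩
      neg_mem' := fun {a} ha => ⟨neg_mem ha.1, fun l => by rw [map_neg, ha.2]⟩ }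
  by_contra h0
  have hne : B ≠ ⊥ := fun hB => h0 (by
    have : a ∈ B := ⟨ha, h⟩
    rw [hB] at this
    exact this)
  obtain ⟨b, hb, hb0, hbs⟩ := exists_fixed D.two D.s2 (B := B) (fun s b hb => ⟨D.inv s b hb.1, by
    have hinj : Function.Injective (σ s) := fun l m => D.inj s l m
    intro l
    obtain ⟨m, rfl⟩ := (Finite.injective_iff_surjective.1 hinj) l
    rw [← D.perm s m b hb.1, hb.2]⟩) hne
  rcases D.fix b hb.1 hbs with h1 | h1
  · exact hb0 h1
  · rcases isEmpty_or_nonempty ι with hι | ⟨⟨l⟩⟩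
    · apply hb0
      rw [h1]
      exact Finset.sum_of_isEmpty _
    · have h2 := hb.2 l
      rw [h1, map_sum] at h2
      have h3 : ∀ m ∈ Finset.univ, m ≠ l → ε l (v m) = v m := fun m _ hm => D.vm l m hm.symm
      classical
      rw [← Finset.sum_erase_add _ _ (Finset.mem_univ l), ← Finset.sum_erase_add _ _ (Finset.mem_univ l), D.vl,
        Finset.sum_congr rfl fun m hm => h3 m (Finset.mem_univ m) (Finset.ne_of_mem_erase hm)] at h2
      exact D.v0 l (add_left_cancel h2).symm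

/-- `1 + ε i`, `1 + ε j` are orthogonal -/
theorem orth (D : IDat F ε σ v) {i j : ι} (hij : i ≠ j) {a : A} (ha : a ∈ F) :
    a + ε i a + ε j (a + ε i a) = 0 := by
  classical
  let X : Set A := {x | ∃ i j, i ≠ j ∧ ∃ a ∈ F, x = a + ε i a + ε j (a + ε i a)}
  let B : AddSubgroup A := AddSubgroup.closure X
  by_contra h0
  have hne : B ≠ ⊥ := fun hB => h0 (by
    have : a + ε i a + ε j (a + ε i a) ∈ B := AddSubgroup.subset_closure ⟨i, j, hij, a, ha, rfl⟩
    rw [hB] at this
    exact this)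
  have hXF : X ⊆ F := by
    rintro _ ⟨i, j, -, a, ha, rfl⟩
    have := add_mem ha (D.mem i a ha)
    exact add_mem this (D.mem j _ this)
  have hBF : B ≤ F := (AddSubgroup.closure_le F).2 hXF
  have hBs : ∀ s : 𝒮, ∀ b ∈ B, s • b ∈ B := by
    intro s b hb
    induction hb using AddSubgroup.closure_induction with
    | mem x hx =>
      obtain ⟨i, j, hij, a, ha, rfl⟩ := hx
      apply AddSubgroup.subset_closure
      refine ⟨σ s i, σ s j, fun h => hij (D.inj s i j h), s • a, D.inv s a ha, ?_⟩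
      rw [smul_add, smul_add, D.perm s i a ha, D.perm s j _ (add_mem ha (D.mem i a ha)), smul_add, D.perm s i a ha]
    | zero => rw [smul_zero]; exact zero_mem _
    | add x y _ _ hx hy => rw [smul_add]; exact add_mem hx hy
    | neg x _ hx => rw [smul_neg]; exact neg_mem hx
  obtain ⟨b, hb, hb0, hbs⟩ := exists_fixed D.two D.s2 hBs hne
  rcases D.fix b (hBF hb) hbs with h1 | h1
  · exact hb0 h1
  · let L : List ι := (Finset.univ.erase i).toList
    have hL : ∀ m, m ≠ i → m ∈ L := fun m hm => Finset.mem_toList.2 (Finset.mem_erase.2 ⟨hm, Finset.mem_univ m⟩)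
    have hiL : i ∉ L := fun h => (Finset.mem_erase.1 (Finset.mem_toList.1 h)).1 rfl
    have hk : eL ε L b = 0 := by
      clear h1 hb0 hbs
      induction hb using AddSubgroup.closure_induction with
      | mem x hx =>
        obtain ⟨i', j', hij', a, ha, rfl⟩ := hx
        by_cases h : i' = i
        · exact D.eL_kill L (hL j' fun h' => hij' (h.trans h'.symm)) (add_mem ha (D.mem i' a ha))
        · rw [map_add, D.eL_comm L j' (add_mem ha (D.mem i' a ha)), D.eL_kill L (hL i' h) ha, map_zero, add_zero]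
      | zero => exact map_zero _
      | add x y _ _ hx hy => rw [map_add, hx, hy, add_zero]
      | neg x _ hx => rw [map_neg, hx, neg_zero]
    rw [h1, map_sum, ← Finset.sum_erase_add _ _ (Finset.mem_univ i),
      Finset.sum_eq_zero fun m hm => D.eL_v0 L (hL m (Finset.ne_of_mem_erase hm)), zero_add, D.eL_v L hiL] at hk
    exact D.v0 i hk

/-- `∑ (1 + ε l) = 1` -/
theorem sum (D : IDat F ε σ v) {a : A} (ha : a ∈ F) : ∑ l, (a + ε l a) = a := by
  classical
  have hF : ∀ l, a + ε l a ∈ F := fun l => add_mem ha (D.mem l a ha)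
  have h1 : ∑ l, (a + ε l a) + a = 0 := by
    refine D.eq_zero (add_mem (sum_mem fun l _ => hF l) ha) fun m => ?_
    have hm : ε m (∑ l, (a + ε l a)) = ∑ l, (a + ε l a) + (a + ε m a) := by
      have h3 : ∀ l, ε m (a + ε l a) + (a + ε l a) = if l = m then a + ε m a else 0 := by
        intro l
        split_ifs with h
        · subst h
          rw [map_add, D.idem l a ha, D.two, zero_add]
        · have := D.orth h ha
          rw [add_comm]
          exact this
      have h4 : ε m (∑ l, (a + ε l a)) + ∑ l, (a + ε l a) = a + ε m a := by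
        rw [map_sum, ← Finset.sum_add_distrib, Finset.sum_congr rfl fun l _ => h3 l, Finset.sum_ite_eq']
        simp
      rw [← h4, add_comm (ε m _), ← add_assoc, D.two, zero_add]
    rw [map_add, hm, add_assoc, add_assoc, D.two, add_zero]
  have h5 : -a = a := neg_eq_of_add_eq_zero_left (D.two a)
  rw [add_eq_zero_iff_eq_neg, h5] at h1
  exact h1

end IDat

end Cfsg.Agent.Omega.IId.SymTwo5

end

section


/-!
# Two pure steps of (B3) of THEOREM L2 (bb OMEGA 18061, helper290)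

* `exists_b` : `M` an elementary abelian 2-group normalised by the 2-group `A` and by `x`, `x³ = 1` on `M`, `x ≠ 1` on
  `M`, every `a ∈ A` centralises or inverts `x` on `M`; then there is `b ∈ M`, `b ≠ 1`, fixed by `A`, with
  `b b^x b^(x²) = 1`;
* `card_range_le` : `D² = 0` on `E`, `π` idempotent, `π e = 0 = π (D e)` implies `D e = 0`; then `|D E| ≤ |π E|`;
* `ker_of_star` : the last hypothesis for `D = b - 1` and `π = x + x²`.
-/

set_option autoImplicit false

namespace Cfsg.Agent.Omega.IId.SymTwo5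

open Subgroup

section grp

variable {Γ : Type*} [Group Γ]

/-- the elements `m` with `m m^x m^(x²) = 1` -/
def mx (M : Subgroup Γ) (x : Γ) (hM : ∀ m ∈ M, ∀ n ∈ M, m * n = n * m) (hx : ∀ m ∈ M, x * m * x⁻¹ ∈ M) : Subgroup Γ where
  carrier := {m | m ∈ M ∧ m * (x * m * x⁻¹) * (x * (x * m * x⁻¹) * x⁻¹) = 1}
  one_mem' := ⟨one_mem M, by simp⟩
  mul_mem' := by
    rintro a b ⟨ha, ha1⟩ ⟨hb, hb1⟩
    refine ⟨mul_mem ha hb, ?_⟩
    have h1 := hx a ha
    have h2 := hx b hb
    have h3 := hx _ h1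
    have h4 := hx _ h2
    have e1 : x * (a * b) * x⁻¹ = (x * a * x⁻¹) * (x * b * x⁻¹) := by group
    have e2 : x * ((x * a * x⁻¹) * (x * b * x⁻¹)) * x⁻¹ =
        (x * (x * a * x⁻¹) * x⁻¹) * (x * (x * b * x⁻¹) * x⁻¹) := by group
    rw [e1, e2]
    calc a * b * (x * a * x⁻¹ * (x * b * x⁻¹)) * (x * (x * a * x⁻¹) * x⁻¹ * (x * (x * b * x⁻¹) * x⁻¹))
        = a * (b * (x * a * x⁻¹)) * (x * b * x⁻¹) * (x * (x * a * x⁻¹) * x⁻¹) * (x * (x * b * x⁻¹) * x⁻¹) := by
          simp only [mul_assoc]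
      _ = a * ((x * a * x⁻¹) * b) * (x * b * x⁻¹) * (x * (x * a * x⁻¹) * x⁻¹) * (x * (x * b * x⁻¹) * x⁻¹) := by
          rw [hM b hb _ h1]
      _ = a * (x * a * x⁻¹) * ((b * (x * b * x⁻¹)) * (x * (x * a * x⁻¹) * x⁻¹)) * (x * (x * b * x⁻¹) * x⁻¹) := by
          simp only [mul_assoc]
      _ = a * (x * a * x⁻¹) * ((x * (x * a * x⁻¹) * x⁻¹) * (b * (x * b * x⁻¹))) * (x * (x * b * x⁻¹) * x⁻¹) := by
          rw [hM _ (mul_mem hb h2) _ h3]
      _ = (a * (x * a * x⁻¹) * (x * (x * a * x⁻¹) * x⁻¹)) * (b * (x * b * x⁻¹) * (x * (x * b * x⁻¹) * x⁻¹)) := by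
          simp only [mul_assoc]
      _ = 1 := by rw [ha1, hb1, one_mul]
  inv_mem' := by
    rintro a ⟨ha, ha1⟩
    refine ⟨inv_mem ha, ?_⟩
    have h1 := hx a ha
    have h3 := hx _ h1
    have e1 : x * a⁻¹ * x⁻¹ = (x * a * x⁻¹)⁻¹ := by group
    have e2 : x * (x * a * x⁻¹)⁻¹ * x⁻¹ = (x * (x * a * x⁻¹) * x⁻¹)⁻¹ := by
      rw [mul_inv_rev (x * (x * a * x⁻¹)), mul_inv_rev x, inv_inv, mul_assoc]
    rw [e1, e2, ← mul_inv_rev, ← mul_inv_rev, hM _ h3 _ (mul_mem h1 ha), hM _ h1 _ ha, ha1, inv_one]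

theorem exists_b [Finite Γ] {M A : Subgroup Γ} (hM2 : ∀ m ∈ M, m * m = 1) (hM : ∀ m ∈ M, ∀ n ∈ M, m * n = n * m)
    (hA : IsPGroup 2 A) (hAM : ∀ a ∈ A, ∀ m ∈ M, a * m * a⁻¹ ∈ M) {x : Γ} (hx : ∀ m ∈ M, x * m * x⁻¹ ∈ M)
    (hx3 : ∀ m ∈ M, x * (x * (x * m * x⁻¹) * x⁻¹) * x⁻¹ = m)
    (hax : ∀ a ∈ A, (∀ m ∈ M, a * (x * m * x⁻¹) * a⁻¹ = x * (a * m * a⁻¹) * x⁻¹) ∨
      ∀ m ∈ M, a * (x * m * x⁻¹) * a⁻¹ = x * (x * (a * m * a⁻¹) * x⁻¹) * x⁻¹)
    (hne : ∃ m ∈ M, x * m * x⁻¹ ≠ m) :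
    ∃ b ∈ M, b ≠ 1 ∧ (∀ a ∈ A, a * b = b * a) ∧ b * (x * b * x⁻¹) * (x * (x * b * x⁻¹) * x⁻¹) = 1 := by
  have : Fact (Nat.Prime 2) := ⟨Nat.prime_two⟩
  let X := mx M x hM hx
  have hmem : ∀ {m}, m ∈ X ↔ m ∈ M ∧ m * (x * m * x⁻¹) * (x * (x * m * x⁻¹) * x⁻¹) = 1 := Iff.rfl
  have hAX : ∀ a ∈ A, ∀ m ∈ X, a * m * a⁻¹ ∈ X := by
    intro a ha m hm
    obtain ⟨hm1, hm2⟩ := hmem.1 hm
    have hamM := hAM a ha m hm1
    refine hmem.2 ⟨hamM, ?_⟩
    have h1 := hx m hm1
    have h2 := hx _ h1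
    have key : a * (m * (x * m * x⁻¹) * (x * (x * m * x⁻¹) * x⁻¹)) * a⁻¹ = 1 := by rw [hm2]; group
    have e : a * (m * (x * m * x⁻¹) * (x * (x * m * x⁻¹) * x⁻¹)) * a⁻¹ =
        (a * m * a⁻¹) * (a * (x * m * x⁻¹) * a⁻¹) * (a * (x * (x * m * x⁻¹) * x⁻¹) * a⁻¹) := by group
    rw [e] at key
    rcases hax a ha with h | h
    · rw [h m hm1, h _ h1, h m hm1] at key
      exact key
    · have h3 := h m hm1
      have h4 := h _ h1
      rw [h3] at h4
      have h5 : x * (x * (x * (x * (a * m * a⁻¹) * x⁻¹) * x⁻¹) * x⁻¹) * x⁻¹ = x * (a * m * a⁻¹) * x⁻¹ := by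
        rw [hx3 _ hamM]
      rw [h5] at h4
      rw [h3, h4, mul_assoc, hM _ (hx _ (hx _ hamM)) _ (hx _ hamM), ← mul_assoc] at key
      exact key
  obtain ⟨m, hm, hmx⟩ := hne
  have hm' : m * (x * m * x⁻¹) ∈ X := by
    have h1 := hx m hm
    have h2 := hx _ h1
    refine hmem.2 ⟨mul_mem hm h1, ?_⟩
    have e1 : x * (m * (x * m * x⁻¹)) * x⁻¹ = (x * m * x⁻¹) * (x * (x * m * x⁻¹) * x⁻¹) := by group
    have e2 : x * ((x * m * x⁻¹) * (x * (x * m * x⁻¹) * x⁻¹)) * x⁻¹ =
        (x * (x * m * x⁻¹) * x⁻¹) * (x * (x * (x * m * x⁻¹) * x⁻¹) * x⁻¹) := by group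
    rw [e1, e2, hx3 m hm]
    calc m * (x * m * x⁻¹) * (x * m * x⁻¹ * (x * (x * m * x⁻¹) * x⁻¹)) * (x * (x * m * x⁻¹) * x⁻¹ * m)
        = m * ((x * m * x⁻¹) * (x * m * x⁻¹)) * ((x * (x * m * x⁻¹) * x⁻¹) * (x * (x * m * x⁻¹) * x⁻¹)) * m := by
          simp only [mul_assoc]
      _ = 1 := by rw [hM2 _ h1, hM2 _ h2, mul_one, mul_one, hM2 m hm]
  have hm1 : m * (x * m * x⁻¹) ≠ 1 := by
    intro h
    apply hmx
    have h1 := hM2 m hm
    rw [← h1] at h
    exact (mul_left_cancel h)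
  let act : MulAction A X :=
    { smul := fun a m => ⟨(a : Γ) * m * (a : Γ)⁻¹, hAX a a.2 m m.2⟩
      one_smul := fun m => Subtype.ext (by change (1 : Γ) * m * (1 : Γ)⁻¹ = m; group)
      mul_smul := fun a b m => Subtype.ext (by
        change ((a : Γ) * b) * m * ((a : Γ) * b)⁻¹ = a * (b * m * (b : Γ)⁻¹) * (a : Γ)⁻¹
        group) }
  have hsm : ∀ (a : A) (m : X), ((a • m : X) : Γ) = (a : Γ) * m * (a : Γ)⁻¹ := fun _ _ => rfl
  have hdvd : 2 ∣ Nat.card X := by
    have h1 : orderOf (⟨_, hm'⟩ : X) = 2 := by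
      refine orderOf_eq_prime ?_ fun h => hm1 (congrArg Subtype.val h)
      apply Subtype.ext
      rw [pow_two]
      exact hM2 _ (hmem.1 hm').1
    rw [← h1]
    exact orderOf_dvd_natCard _
  obtain ⟨b, hb, hb1⟩ := hA.exists_fixed_point_of_prime_dvd_card_of_fixed_point X hdvd
    (a := (1 : X)) (fun a => Subtype.ext (by rw [hsm]; simp))
  refine ⟨b, (hmem.1 b.2).1, fun h => hb1 (Subtype.ext h.symm), fun a ha => ?_, (hmem.1 b.2).2⟩
  have h := congrArg Subtype.val (hb ⟨a, ha⟩)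
  rw [hsm] at h
  exact mul_inv_eq_iff_eq_mul.1 h

end grp

section rank

variable {E : Type*} [AddCommGroup E]

/-- the rank estimate of (B3) -/
theorem card_range_le [Finite E] (D π : E →+ E) (hD : ∀ e, D (D e) = 0)
    (hπ : ∀ e, π (π e) = π e) (hker : ∀ e, π e = 0 → π (D e) = 0 → D e = 0) :
    Nat.card D.range ≤ Nat.card {e : E // π e = e} := by
  classical
  -- `I = ker π`, `Φ = π D I`
  let I : AddSubgroup E := π.ker
  let C : AddSubgroup E := π.range
  have hC : ∀ e, e ∈ C ↔ π e = e := fun e => ⟨by rintro ⟨f, rfl⟩; exact hπ f, fun h => ⟨e, h⟩⟩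
  have hcard : Nat.card {e : E // π e = e} = Nat.card C := Nat.card_congr (Equiv.subtypeEquivRight fun e => (hC e).symm)
  rw [hcard]
  -- `ψ : C → range D / D I`
  let DI : AddSubgroup E := I.map D
  let Φ : AddSubgroup E := DI.map π
  have hΦC : Φ ≤ C := by
    rintro _ ⟨e, -, rfl⟩
    exact ⟨e, rfl⟩
  -- |DI| = |Φ|
  have h1 : Nat.card DI = Nat.card Φ := by
    have hinj : Function.Injective (fun e : DI => (⟨π e, ⟨e, e.2, rfl⟩⟩ : Φ)) := by
      rintro ⟨_, e, he, rfl⟩ ⟨_, f, hf, rfl⟩ h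
      have h2 : π (D e) = π (D f) := congrArg Subtype.val h
      apply Subtype.ext
      change D e = D f
      rw [← sub_eq_zero, ← map_sub]
      apply hker
      · have he' : π e = 0 := he
        have hf' : π f = 0 := hf
        rw [map_sub, he', hf', sub_zero]
      · rw [map_sub, map_sub, h2, sub_self]
    have hsurj : Function.Surjective (fun e : DI => (⟨π e, ⟨e, e.2, rfl⟩⟩ : Φ)) := by
      rintro ⟨_, e, he, rfl⟩
      exact ⟨⟨e, he⟩, rfl⟩
    exact Nat.card_eq_of_bijective _ ⟨hinj, hsurj⟩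
  -- `D.range = DI + D C`
  have hdec : ∀ e : E, π (e - π e) = 0 := fun e => by rw [map_sub, hπ, sub_self]
  -- `D Φ ≤ DI`
  have hDΦ : ∀ e ∈ Φ, D e ∈ DI := by
    rintro _ ⟨_, ⟨e, he, rfl⟩, rfl⟩
    -- D e = u + v, u = D e - π (D e)
    have h2 : D (D e - π (D e)) + D (π (D e)) = 0 := by rw [← map_add, sub_add_cancel, hD]
    have h3 : D (π (D e)) = D (-(D e - π (D e))) := by
      rw [map_neg, eq_neg_iff_add_eq_zero, add_comm, h2]
    rw [h3]
    exact ⟨_, I.neg_mem (hdec _), rfl⟩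
  have hle : DI ≤ D.range := by
    rintro _ ⟨e, -, rfl⟩
    exact ⟨e, rfl⟩
  -- the indices
  have h2 : Nat.card D.range = Nat.card DI * DI.relIndex D.range := by
    rw [← AddSubgroup.relIndex_bot_left, ← AddSubgroup.relIndex_bot_left,
      AddSubgroup.relIndex_mul_relIndex _ _ _ bot_le hle]
  have h3 : Nat.card C = Nat.card Φ * Φ.relIndex C := by
    rw [← AddSubgroup.relIndex_bot_left, ← AddSubgroup.relIndex_bot_left,
      AddSubgroup.relIndex_mul_relIndex _ _ _ bot_le hΦC]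
  rw [h2, h3, h1]
  refine Nat.mul_le_mul_left _ ?_
  -- `C / Φ → D.range / DI` is onto
  let f : C →+ D.range ⧸ (DI.addSubgroupOf D.range) :=
    (QuotientAddGroup.mk' _).comp ((D.rangeRestrict).comp C.subtype)
  have hf : Function.Surjective f := by
    intro y
    obtain ⟨⟨_, e, rfl⟩, rfl⟩ := QuotientAddGroup.mk_surjective y
    refine ⟨⟨π e, ⟨e, rfl⟩⟩, ?_⟩
    change (QuotientAddGroup.mk (D.rangeRestrict (π e)) : D.range ⧸ (DI.addSubgroupOf D.range)) = _
    rw [QuotientAddGroup.eq, AddSubgroup.mem_addSubgroupOf]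
    change -(D (π e)) + D e ∈ DI
    rw [← map_neg, ← map_add]
    refine ⟨_, ?_, rfl⟩
    change π (-(π e) + e) = 0
    rw [neg_add_eq_sub]
    exact hdec e
  have hker' : ∀ c : C, (c : E) ∈ Φ → f c = 0 := by
    intro c hc
    change (QuotientAddGroup.mk (D.rangeRestrict (c : E)) : D.range ⧸ (DI.addSubgroupOf D.range)) = _
    rw [QuotientAddGroup.eq_zero_iff, AddSubgroup.mem_addSubgroupOf]
    exact hDΦ c hc
  have h4 : f.ker.index = Nat.card (D.range ⧸ (DI.addSubgroupOf D.range)) := by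
    rw [AddSubgroup.index_ker]
    have : f.range = ⊤ := AddMonoidHom.range_eq_top.2 hf
    rw [this]
    exact AddSubgroup.card_top
  have h5 : Φ.addSubgroupOf C ≤ f.ker := fun c hc => hker' c hc
  have h6 : f.ker.index ≤ (Φ.addSubgroupOf C).index :=
    Nat.le_of_dvd (Nat.pos_of_ne_zero (AddSubgroup.FiniteIndex.index_ne_zero)) (AddSubgroup.index_dvd_of_le h5)
  rw [h4] at h6
  exact h6

end rank

section star

variable {Γ Y : Type*} [Group Γ] [AddCommGroup Y] [DistribMulAction Γ Y]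

/-- the hypothesis `hker` of `card_range_le` from `b b^x b^(x²) = 1`: `e`, `b e - e` fixed by `x` imply `b e = e` -/
theorem ker_of_star {b x : Γ} (hb : b * b = 1)
    (hbx : b * (x * b * x⁻¹) * (x * (x * b * x⁻¹) * x⁻¹) = 1) {e : Y} (he : x • e = e)
    (hbe : x • (b • e - e) = b • e - e) : b • e = e := by
  have hxe : x⁻¹ • e = e := by rw [inv_smul_eq_iff, he]
  have h0 : x • (b • e) = b • e := by
    rw [smul_sub, he] at hbe
    exact sub_left_injective hbe
  have h1 : (x * b * x⁻¹) • e = b • e := by rw [mul_smul, mul_smul, hxe, h0]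
  have h2 : (x * (x * b * x⁻¹) * x⁻¹) • e = b • e := by rw [mul_smul, mul_smul, hxe, h1, h0]
  have h3 := congrArg (· • e) hbx
  simp only [mul_smul, one_smul] at h3
  have e2 : x • x • b • x⁻¹ • x⁻¹ • e = b • e := by
    rw [hxe, hxe, h0, h0]
  rw [e2] at h3
  have hbb : b • b • e = e := by rw [← mul_smul, hb, one_smul]
  have hxbe : x⁻¹ • b • e = b • e := by rw [inv_smul_eq_iff, h0]
  rw [hxbe, hbb, he] at h3
  exact h3

end star

end Cfsg.Agent.Omega.IId.SymTwo5

end

section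


/-!
# THEOREM L for `m = 2`: the linear algebra (bb OMEGA #18734 (1), (3), (4))

`main` : a 2-group `W` of operators with `C_W(a) = 1`, `x` of order 3, the only `T`-fixed vectors with
`v + v^x + v^(x²) = 0` are `0`, `a`: there are `y ≠ z` in `W`, both `≠ 1`, which centralise all `x`-fixed vectors.
-/

set_option autoImplicit false

namespace Cfsg.Agent.Omega.IId.SymWr.LTwoLin

open Subgroup Cfsg
open Cfsg.Agent.ZN (zc)
open Cfsg.Agent.MinSimple.VModule (mem_zc zc_le zc_comm zc_sq normalizer_le_normalizer_zc)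
open Cfsg.Agent.Omega.IId.SymTwo5

/-- fixed elements of a 2-group acting on a 2-group -/
theorem exists_comm {N : Type*} [Group N] [Finite N] {T M : Subgroup N} (hT : IsPGroup 2 T)
    (hM : ∀ m ∈ M, m * m = 1) (hne : M ≠ ⊥) (hTM : ∀ t ∈ T, ∀ m ∈ M, t * m * t⁻¹ ∈ M) :
    ∃ m ∈ M, m ≠ 1 ∧ ∀ t ∈ T, t * m = m * t := by
  have : Fact (Nat.Prime 2) := ⟨Nat.prime_two⟩
  let act : MulAction T M :=
    { smul := fun s b => ⟨s * b * (s : N)⁻¹, hTM s s.2 b b.2⟩
      one_smul := fun b => Subtype.ext (by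
        change (1 : N) * b * (1 : N)⁻¹ = b
        simp)
      mul_smul := fun s t b => Subtype.ext (by
        change ((s : N) * t) * b * ((s : N) * t)⁻¹ = s * (t * b * (t : N)⁻¹) * (s : N)⁻¹
        group) }
  have hsm : ∀ (s : T) (b : M), ((s • b : M) : N) = s * b * (s : N)⁻¹ := fun _ _ => rfl
  obtain ⟨b, hb0⟩ := (Subgroup.ne_bot_iff_exists_ne_one).1 hne
  have hdvd : 2 ∣ Nat.card M := by
    have h1 : orderOf b = 2 := by
      refine orderOf_eq_prime ?_ hb0
      rw [pow_two]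
      exact Subtype.ext (hM b b.2)
    rw [← h1]
    exact orderOf_dvd_natCard _
  obtain ⟨c, hc, hc0⟩ := hT.exists_fixed_point_of_prime_dvd_card_of_fixed_point M hdvd
    (a := (1 : M)) (fun s => Subtype.ext (by rw [hsm]; simp))
  refine ⟨c, c.2, fun h => hc0 (Subtype.ext h.symm), fun t ht => ?_⟩
  have h3 := hc ⟨t, ht⟩
  have h4 := congrArg Subtype.val h3
  rw [hsm] at h4
  exact mul_inv_eq_iff_eq_mul.1 h4

variable {N A : Type*} [Group N] [Finite N] [AddCommGroup A] [Finite A] [DistribMulAction N A]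

theorem main (h2 : ∀ a : A, a + a = 0)
    {T W : Subgroup N} (hT : IsPGroup 2 T) (hW : IsPGroup 2 W) (hW1 : W ≠ ⊥)
    (hTW : T ≤ normalizer (W : Set N)) {x : N} (hxW : x ∈ normalizer (W : Set N)) (hx3 : x * x * x = 1)
    (hTx : ∀ t ∈ T, t * x * t⁻¹ = x ∨ t * x * t⁻¹ = x⁻¹)
    {a : A} (hfx : ∀ v : A, (∀ t ∈ T, t • v = v) → v + x • v + x • x • v = 0 → v = 0 ∨ v = a)
    (hTa : ∀ t ∈ T, t • a = a) (hxa : a + x • a + x • x • a = 0)
    (hWa : ∀ w ∈ W, w • a = a → w = 1) :
    ∃ y ∈ W, ∃ z ∈ W, y ≠ 1 ∧ z ≠ 1 ∧ y ≠ z ∧ ∀ v : A, x • v = v → y • v = v ∧ z • v = v := by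
  have hxinv : x⁻¹ = x * x := inv_eq_of_mul_eq_one_right (by rw [← mul_assoc, hx3])
  have hxxx : ∀ v : A, x • x • x • v = v := fun v => by rw [← mul_smul, ← mul_smul, hx3, one_smul]
  have hxi : ∀ v : A, x⁻¹ • v = x • x • v := fun v => by rw [hxinv, mul_smul]
  -- (1)
  have c1 : ∀ u ∈ W, (∀ t ∈ T, t * u = u * t) → x * u = u * x → u = 1 := by
    intro u hu htu hxu
    have h1 : ∀ t ∈ T, t • (u • a) = u • a := fun t ht => by
      rw [← mul_smul, htu t ht, mul_smul, hTa t ht]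
    have h3 : ∀ v : A, x • u • v = u • x • v := fun v => by rw [← mul_smul, hxu, mul_smul]
    have h4 : u • a + x • u • a + x • x • u • a = 0 := by
      rw [h3, h3, ← smul_add, ← smul_add, hxa, smul_zero]
    rcases hfx _ h1 h4 with h5 | h5
    · have h6 : a = 0 := by
        have := congrArg (u⁻¹ • ·) h5
        simpa using this
      exact hWa u hu (by rw [h6, smul_zero])
    · exact hWa u hu h5
  -- `Ω₁Z(W)`
  set M := zc W with hM
  have hMW : ∀ m ∈ M, m ∈ W := fun m hm => zc_le W hm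
  have hMsq : ∀ m ∈ M, m * m = 1 := fun m hm => by rw [← pow_two]; exact zc_sq W m hm
  have hMc : ∀ m ∈ M, ∀ n ∈ M, m * n = n * m := fun m hm n hn => zc_comm W m hm n hn
  have hM1 : M ≠ ⊥ := MinSimple.Basic.zc_ne_bot hW hW1
  have hTM : ∀ t ∈ T, ∀ m ∈ M, t * m * t⁻¹ ∈ M := fun t ht m hm =>
    (mem_normalizer_iff.1 (normalizer_le_normalizer_zc _ (hTW ht)) m).1 hm
  have hxM : ∀ m ∈ M, x * m * x⁻¹ ∈ M := fun m hm =>
    (mem_normalizer_iff.1 (normalizer_le_normalizer_zc _ hxW) m).1 hm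
  have hne : ∃ m ∈ M, x * m * x⁻¹ ≠ m := by
    by_contra h0
    push Not at h0
    obtain ⟨m, hm, hm1, hmT⟩ := exists_comm hT hMsq hM1 hTM
    exact hm1 (c1 m (hMW m hm) hmT (mul_inv_eq_iff_eq_mul.1 (h0 m hm)))
  have hxm3 : ∀ m : N, x * (x * (x * m * x⁻¹) * x⁻¹) * x⁻¹ = m := by
    intro m
    have : x * (x * (x * m * x⁻¹) * x⁻¹) * x⁻¹ = (x * x * x) * m * (x * x * x)⁻¹ := by group
    rw [this, hx3, inv_one, mul_one, one_mul]
  obtain ⟨y, hyM, hy1, hTy, hy3⟩ := exists_b hMsq hMc hT hTM hxM (fun m _ => hxm3 m) (by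
    intro t ht
    rcases hTx t ht with h3 | h3
    · left
      intro m _
      have h4 : t * x = x * t := mul_inv_eq_iff_eq_mul.1 h3
      calc t * (x * m * x⁻¹) * t⁻¹ = (t * x) * m * (t * x)⁻¹ := by group
        _ = x * (t * m * t⁻¹) * x⁻¹ := by rw [h4]; group
    · right
      intro m _
      have h4 : t * x = x⁻¹ * t := mul_inv_eq_iff_eq_mul.1 h3
      calc t * (x * m * x⁻¹) * t⁻¹ = (t * x) * m * (t * x)⁻¹ := by group
        _ = x⁻¹ * (t * m * t⁻¹) * (x⁻¹)⁻¹ := by rw [h4]; group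
        _ = (x * x) * (t * m * t⁻¹) * (x * x)⁻¹ := by rw [hxinv]
        _ = x * (x * (t * m * t⁻¹) * x⁻¹) * x⁻¹ := by group) hne
  set z := x * y * x⁻¹ with hz
  set w := x * z * x⁻¹ with hw
  have hzM : z ∈ M := hxM y hyM
  have hwM : w ∈ M := hxM z hzM
  have hyz : y * z = w := by
    have h3 : y * z * w * w = w := by rw [hy3, one_mul]
    rwa [mul_assoc, hMsq w hwM, mul_one] at h3
  have hyw : y * w = z := by
    rw [← hyz, ← mul_assoc, hMsq y hyM, one_mul]
  have hz1 : z ≠ 1 := by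
    intro h0
    apply hy1
    rw [hz, mul_inv_eq_one] at h0
    simpa using h0
  have hyz' : y ≠ z := by
    intro h0
    exact hy1 (c1 y (hMW y hyM) hTy (mul_inv_eq_iff_eq_mul.1 h0.symm))
  -- (3)
  have c3 : ∀ v : A, v + x • v + x • x • v = 0 → y • v = v → v = 0 := by
    let B : AddSubgroup A :=
      { carrier := {v | v + x • v + x • x • v = 0 ∧ y • v = v}
        add_mem' := by
          rintro v w ⟨h3, h4⟩ ⟨h5, h6⟩
          refine ⟨?_, by rw [smul_add, h4, h6]⟩
          have : v + w + x • (v + w) + x • x • (v + w) =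
              (v + x • v + x • x • v) + (w + x • w + x • x • w) := by
            simp only [smul_add]; abel
          rw [this, h3, h5, add_zero]
        zero_mem' := by simp
        neg_mem' := by
          rintro v ⟨h3, h4⟩
          refine ⟨?_, by rw [smul_neg, h4]⟩
          have : -v + x • (-v) + x • x • (-v) = -(v + x • v + x • x • v) := by
            simp only [smul_neg]; abel
          rw [this, h3, neg_zero] }
    by_contra h0
    push Not at h0
    obtain ⟨v, hv1, hv2, hv3⟩ := h0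
    have hB : B ≠ ⊥ := by
      intro h4
      have : v ∈ B := ⟨hv1, hv2⟩
      rw [h4] at this
      exact hv3 this
    obtain ⟨b, hb, hb0, hbT⟩ := exists_fixed (𝒮 := T) h2 hT (B := B) (by
      rintro ⟨t, ht⟩ v ⟨h3, h4⟩
      refine ⟨?_, ?_⟩
      · change t • v + x • t • v + x • x • t • v = 0
        rcases hTx t ht with h5 | h5
        · have h6 : ∀ v : A, x • t • v = t • x • v := fun v => by
            rw [← mul_smul, ← mul_smul, mul_inv_eq_iff_eq_mul.1 h5]
          rw [h6, h6, ← smul_add, ← smul_add, h3, smul_zero]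
        · have h6 : ∀ v : A, x • t • v = t • x • x • v := fun v => by
            have h7 : x⁻¹ * t = t * x := (mul_inv_eq_iff_eq_mul.1 h5).symm
            have h8 : x * t = t * (x * x) := by
              calc x * t = x * (t * x) * x⁻¹ := by group
                _ = t * x⁻¹ := by rw [← h7]; group
                _ = t * (x * x) := by rw [hxinv]
            rw [← mul_smul, h8, mul_smul, mul_smul]
          have h7 : t • v + x • t • v + x • x • t • v = t • (v + x • v + x • x • v) := by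
            rw [h6, h6, hxxx, ← smul_add, ← smul_add, add_right_comm]
          rw [h7, h3, smul_zero]
      · change y • t • v = t • v
        rw [← mul_smul, ← hTy t ht, mul_smul, h4]) hB
    rcases hfx b (fun t ht => hbT ⟨t, ht⟩) hb.1 with h3 | h3
    · exact hb0 h3
    · exact hy1 (hWa y (hMW y hyM) (h3 ▸ hb.2))
  have c4 : ∀ v : A, x • v = v → y • v = v := by
    intro ξ hξ
    have hξ' : x⁻¹ • ξ = ξ := by rw [inv_smul_eq_iff, hξ]
    obtain ⟨l, hl⟩ : ∃ l, l = y • ξ + ξ := ⟨_, rfl⟩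
    have hyξ : y • ξ = ξ + l := by rw [hl, add_comm (y • ξ) ξ, ← add_assoc, h2, zero_add]
    have hzξ : z • ξ = ξ + x • l := by
      rw [hz, mul_smul, mul_smul, hξ', hyξ, smul_add, hξ]
    have hwξ : w • ξ = ξ + x • x • l := by
      rw [hw, mul_smul, mul_smul, hξ', hzξ, smul_add, hξ]
    have key : ∀ a b c d : A, a + b + c = a + d → c = b + d := by
      intro a b c d h3
      have h4 : b + c = d := by
        rw [add_assoc] at h3
        exact add_left_cancel h3
      rw [← h4, ← add_assoc, h2, zero_add]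
    have e1 : y • x • l = l + x • x • l := by
      have h3 : y • z • ξ = w • ξ := by rw [← mul_smul, hyz]
      rw [hzξ, smul_add, hyξ, hwξ] at h3
      exact key _ _ _ _ h3
    have e2 : y • x • x • l = l + x • l := by
      have h3 : y • w • ξ = z • ξ := by rw [← mul_smul, hyw]
      rw [hwξ, smul_add, hyξ, hzξ] at h3
      exact key _ _ _ _ h3
    have e3 : x • l + x • x • l = 0 := by
      apply c3
      · rw [smul_add, smul_add, hxxx]
        have : ∀ a b c : A, a + b + (b + c) + (c + a) = 0 := by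
          intro a b c
          have : a + b + (b + c) + (c + a) = (a + a) + (b + b) + (c + c) := by abel
          rw [this, h2, h2, zero_add, zero_add]; exact h2 c
        exact this _ _ _
      · rw [smul_add, e1, e2]
        have : ∀ a b c : A, a + b + (a + c) = c + b := by
          intro a b c
          have : a + b + (a + c) = (a + a) + (c + b) := by abel
          rw [this, h2, zero_add]
        exact this _ _ _
    have e4 : x • l = x • x • l := by
      have h3 := eq_neg_of_add_eq_zero_left e3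
      rwa [neg_eq_of_add_eq_zero_left (h2 _)] at h3
    have e5 : l = x • l := smul_left_cancel x e4
    have e6 : y • x • l = 0 := by
      rw [e1, ← e4, ← e5, h2]
    have e7 : x • l = 0 := (smul_eq_zero_iff_eq y).1 e6
    have e8 : l = 0 := e5.trans e7
    rw [hyξ, e8, add_zero]
  refine ⟨y, hMW y hyM, z, hMW z hzM, hy1, hz1, hyz', fun v hv => ⟨c4 v hv, ?_⟩⟩
  have hv' : x⁻¹ • v = v := by rw [inv_smul_eq_iff, hv]
  rw [hz, mul_smul, mul_smul, hv', c4 v hv, hv]

end Cfsg.Agent.Omega.IId.SymWr.LTwoLin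

end

section


/-!
# THEOREM L2, `m = 2` (bb OMEGA 18061 / 808 / 158): the count

* `card_le_of_three` : `a i`, `n i` (`i : ι`) elements of `G`, `A` a 2-group commuting with all of them, and for every
  `i` two elements `y`, `y'` of `O₂(C_G(n i))` which commute with the other `a j`, `n j` and such that `a i`, `a i ^ y`,
  `a i ^ y'` are pairwise distinct; then `4 ^ |ι| * |A| ≤ |S|`;
* `card_le_of_action` : `S` acts on `X`, `|X| = 2 f`, with kernel in `A`: `|S| ≤ |A| 2 ^ (2 f - 1)`;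
* `false_of_three` : both together.
-/

set_option autoImplicit false

namespace Cfsg.Agent.Omega.IId.SymWr

open Subgroup Cfsg Cfsg.Agent.ZN
open Cfsg.Agent.MinSimple.VModule (o2_le o2_isPGroup le_normalizer_o2 le_o2)

universe u

variable {G : Type u} [Group G]

theorem mem_cent_singleton {n y : G} : y ∈ centralizer ({n} : Set G) ↔ n * y = y * n := by
  rw [mem_centralizer_iff]
  exact ⟨fun h => h n rfl, fun h m hm => by rw [Set.mem_singleton_iff.1 hm]; exact h⟩

section count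

variable [Finite G]

/-- a 2-group with an orbit of length at least 3 -/
theorem four_le_relIndex {L : Subgroup G} (hL : IsPGroup 2 L) {a y y' : G} (hy : y ∈ L) (hy' : y' ∈ L)
    (h1 : y * a * y⁻¹ ≠ a) (h2 : y' * a * y'⁻¹ ≠ a) (h3 : y * a * y⁻¹ ≠ y' * a * y'⁻¹) :
    4 ≤ (centralizer ({a} : Set G)).relIndex L := by
  set C := centralizer ({a} : Set G) with hC
  obtain ⟨k, hk⟩ := (hL.index (C.subgroupOf L))
  have hmem : ∀ x : G, x ∈ C ↔ x * a * x⁻¹ = a := fun x => by
    rw [hC, mem_cent_singleton, mul_inv_eq_iff_eq_mul, eq_comm]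
  -- three different cosets
  have h3le : 3 ≤ (C.subgroupOf L).index := by
    let f : Fin 3 → L ⧸ C.subgroupOf L := ![QuotientGroup.mk 1, QuotientGroup.mk ⟨y, hy⟩, QuotientGroup.mk ⟨y', hy'⟩]
    have hne : ∀ u v : L, (u : G) * a * (u : G)⁻¹ ≠ v * a * (v : G)⁻¹ →
        (QuotientGroup.mk u : L ⧸ C.subgroupOf L) ≠ QuotientGroup.mk v := by
      intro u v huv h
      apply huv
      rw [QuotientGroup.eq, mem_subgroupOf, hmem] at h
      have h' : (u : G)⁻¹ * v * a * ((u : G)⁻¹ * v)⁻¹ = a := h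
      calc (u : G) * a * (u : G)⁻¹ = u * ((u : G)⁻¹ * v * a * ((u : G)⁻¹ * v)⁻¹) * (u : G)⁻¹ := by rw [h']
        _ = v * a * (v : G)⁻¹ := by group
    have hf : Function.Injective f := by
      have n01 : f 0 ≠ f 1 := hne 1 ⟨y, hy⟩ (by
        intro h
        apply h1
        rw [← h]
        simp)
      have n02 : f 0 ≠ f 2 := hne 1 ⟨y', hy'⟩ (by
        intro h
        apply h2
        rw [← h]
        simp)
      have n12 : f 1 ≠ f 2 := hne ⟨y, hy⟩ ⟨y', hy'⟩ h3
      intro i j hij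
      fin_cases i <;> fin_cases j <;> simp_all
    have h4 := Nat.card_le_card_of_injective f hf
    rwa [Nat.card_fin] at h4
  have h5 : (C.subgroupOf L).index ≠ 3 := by
    intro h
    rw [hk] at h
    rcases k with _ | _ | k
    · norm_num at h
    · norm_num at h
    · rw [pow_succ, pow_succ] at h
      omega
  change 4 ≤ (C.subgroupOf L).index
  omega

variable {ι : Type*} [Fintype ι] (S : Sylow 2 G)

/-- the chain -/
theorem four_pow_le {L A : Subgroup G} (hL : IsPGroup 2 L) {a : ι → G} (hA : A ≤ L)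
    (hAa : ∀ x ∈ A, ∀ i, x * a i = a i * x)
    (H : ∀ i, ∃ y ∈ L, ∃ y' ∈ L, (∀ j, j ≠ i → y * a j = a j * y ∧ y' * a j = a j * y') ∧
      y * a i * y⁻¹ ≠ a i ∧ y' * a i * y'⁻¹ ≠ a i ∧ y * a i * y⁻¹ ≠ y' * a i * y'⁻¹) :
    4 ^ Fintype.card ι * Nat.card A ≤ Nat.card L := by
  classical
  have key : ∀ s : Finset ι,
      4 ^ s.card * Nat.card ↥(L ⊓ centralizer (a '' (s : Set ι)) : Subgroup G) ≤ Nat.card L := by
    intro s
    induction s using Finset.induction_on with
    | empty =>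
      have : L ⊓ centralizer (a '' ((∅ : Finset ι) : Set ι)) = L := by
        rw [Finset.coe_empty, Set.image_empty]
        refine inf_eq_left.2 fun x _ => ?_
        rw [mem_centralizer_iff]
        exact fun m hm => absurd hm (Set.notMem_empty m)
      rw [this, Finset.card_empty, pow_zero, one_mul]
    | insert i s hi ih =>
      set M := L ⊓ centralizer (a '' (s : Set ι)) with hM
      have hML : M ≤ L := inf_le_left
      have hM2 : IsPGroup 2 M := hL.to_le hML
      have hset : L ⊓ centralizer (a '' ((insert i s : Finset ι) : Set ι)) = M ⊓ centralizer ({a i} : Set G) := by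
        ext x
        rw [hM, mem_inf, mem_inf, mem_inf, mem_cent_singleton, mem_centralizer_iff, mem_centralizer_iff]
        constructor
        · rintro ⟨h1, h2⟩
          refine ⟨⟨h1, fun m hm => h2 m ?_⟩, h2 _ ⟨i, by simp, rfl⟩⟩
          obtain ⟨j, hj, rfl⟩ := hm
          exact ⟨j, by simp [Finset.mem_coe.1 hj], rfl⟩
        · rintro ⟨⟨h1, h2⟩, h3⟩
          refine ⟨h1, ?_⟩
          rintro _ ⟨j, hj, rfl⟩
          rw [Finset.mem_coe, Finset.mem_insert] at hj
          rcases hj with rfl | hj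
          · exact h3
          · exact h2 _ ⟨j, hj, rfl⟩
      obtain ⟨y, hy, y', hy', hc, h1, h2, h3⟩ := H i
      have hyM : ∀ {w : G}, w ∈ L → (∀ j, j ≠ i → w * a j = a j * w) → w ∈ M := by
        intro w hw h
        refine mem_inf.2 ⟨hw, ?_⟩
        rw [mem_centralizer_iff]
        rintro _ ⟨j, hj, rfl⟩
        refine (h j ?_).symm
        rintro rfl
        exact hi hj
      have h4 := four_le_relIndex hM2 (hyM hy fun j hj => (hc j hj).1) (hyM hy' fun j hj => (hc j hj).2) h1 h2 h3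
      have h5 : Nat.card ↥(M ⊓ centralizer ({a i} : Set G) : Subgroup G) *
          (centralizer ({a i} : Set G)).relIndex M = Nat.card M := by
        rw [← Subgroup.inf_relIndex_left, ← Subgroup.relIndex_bot_left, ← Subgroup.relIndex_bot_left]
        exact Subgroup.relIndex_mul_relIndex _ _ _ bot_le inf_le_left
      rw [hset, Finset.card_insert_of_notMem hi]
      calc 4 ^ (s.card + 1) * Nat.card ↥(M ⊓ centralizer ({a i} : Set G) : Subgroup G)
          = 4 ^ s.card * (Nat.card ↥(M ⊓ centralizer ({a i} : Set G) : Subgroup G) * 4) := by ring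
        _ ≤ 4 ^ s.card * (Nat.card ↥(M ⊓ centralizer ({a i} : Set G) : Subgroup G) *
            (centralizer ({a i} : Set G)).relIndex M) := Nat.mul_le_mul_left _ (Nat.mul_le_mul_left _ h4)
        _ = 4 ^ s.card * Nat.card M := by rw [h5]
        _ ≤ Nat.card L := ih
  have h1 := key Finset.univ
  rw [Finset.card_univ] at h1
  refine le_trans (Nat.mul_le_mul_left _ ?_) h1
  refine Nat.card_le_card_of_injective (Subgroup.inclusion ?_) (Subgroup.inclusion_injective _)
  refine le_inf hA fun x hx => ?_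
  rw [mem_centralizer_iff]
  rintro _ ⟨j, -, rfl⟩
  exact (hAa x hx j).symm

/-- **the count** -/
theorem card_le_of_three {A : Subgroup G} (hA2 : IsPGroup 2 A) {a n : ι → G}
    (hAa : ∀ x ∈ A, ∀ i, x * a i = a i * x) (hAn : ∀ x ∈ A, ∀ i, x * n i = n i * x)
    (H : ∀ i, ∃ y ∈ o2 (centralizer ({n i} : Set G)), ∃ y' ∈ o2 (centralizer ({n i} : Set G)),
      (∀ j, j ≠ i → y * a j = a j * y ∧ y * n j = n j * y ∧ y' * a j = a j * y' ∧ y' * n j = n j * y') ∧
      y * a i * y⁻¹ ≠ a i ∧ y' * a i * y'⁻¹ ≠ a i ∧ y * a i * y⁻¹ ≠ y' * a i * y'⁻¹) :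
    4 ^ Fintype.card ι * Nat.card A ≤ Nat.card (S : Subgroup G) := by
  classical
  set D := centralizer (Set.range n) with hD
  have hAD : A ≤ D := fun x hx => by
    rw [hD, mem_centralizer_iff]
    rintro _ ⟨i, rfl⟩
    exact (hAn x hx i).symm
  have hDi : ∀ i, D ≤ centralizer ({n i} : Set G) := fun i =>
    centralizer_le (Set.singleton_subset_iff.2 ⟨i, rfl⟩)
  -- `O₂(C(n i)) ⊓ D ≤ O₂(D)`
  have ho : ∀ i, o2 (centralizer ({n i} : Set G)) ⊓ D ≤ o2 D := by
    intro i
    refine le_o2 inf_le_right ((o2_isPGroup _).to_le inf_le_left) fun x hx => ?_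
    have h1 := le_normalizer_o2 (centralizer ({n i} : Set G)) (hDi i hx)
    rw [mem_normalizer_iff] at h1 ⊢
    intro w
    rw [mem_inf, mem_inf, h1 w]
    refine and_congr_right fun _ => ⟨fun h => D.mul_mem (D.mul_mem hx h) (D.inv_mem hx), fun h => ?_⟩
    have h2 := D.mul_mem (D.mul_mem (D.inv_mem hx) h) hx
    have e : x⁻¹ * (x * w * x⁻¹) * x = w := by group
    rwa [e] at h2
  have hyD : ∀ i {y : G}, y ∈ o2 (centralizer ({n i} : Set G)) → (∀ j, j ≠ i → y * n j = n j * y) → y ∈ o2 D := by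
    intro i y hy h
    refine ho i (mem_inf.2 ⟨hy, ?_⟩)
    rw [hD, mem_centralizer_iff]
    rintro _ ⟨j, rfl⟩
    by_cases hj : j = i
    · subst hj
      exact mem_cent_singleton.1 (o2_le _ hy)
    · exact (h j hj).symm
  -- the 2-group `L = O₂(D) A`
  let L : Subgroup G := o2 D ⊔ A
  have hL : IsPGroup 2 L := by
    have h1 : IsPGroup 2 ↥(A ⊔ o2 D : Subgroup G) :=
      hA2.to_sup_of_normal_right' (o2_isPGroup D) (hAD.trans (le_normalizer_o2 D))
    rwa [sup_comm] at h1
  have h1 : 4 ^ Fintype.card ι * Nat.card A ≤ Nat.card L := by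
    refine four_pow_le hL le_sup_right hAa fun i => ?_
    obtain ⟨y, hy, y', hy', hc, h1, h2, h3⟩ := H i
    exact ⟨y, mem_sup_left (hyD i hy fun j hj => (hc j hj).2.1), y',
      mem_sup_left (hyD i hy' fun j hj => (hc j hj).2.2.2), fun j hj => ⟨(hc j hj).1, (hc j hj).2.2.1⟩, h1, h2, h3⟩
  refine h1.trans ?_
  obtain ⟨T, hT⟩ := hL.exists_le_sylow
  rw [Nat.card_congr (Sylow.equiv S T).toEquiv]
  exact Nat.card_le_card_of_injective (Subgroup.inclusion hT) (Subgroup.inclusion_injective hT)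

end count

/-- the 2-part of `(2 f)!` -/
theorem factorization_le {f : ℕ} (hf : 0 < f) {k : ℕ} (hk : 2 ^ k ∣ (2 * f).factorial) : k ≤ 2 * f - 1 := by
  have : Fact (Nat.Prime 2) := ⟨Nat.prime_two⟩
  have h1 : k ≤ padicValNat 2 (2 * f).factorial :=
    (padicValNat_dvd_iff_le (Nat.factorial_ne_zero _)).1 hk
  have h2 := sub_one_mul_padicValNat_factorial_lt_of_ne_zero (p := 2) (n := 2 * f) (by omega)
  omega

/-- a 2-group which acts on a set of `2 f` elements -/
theorem card_le_of_action {T : Type*} [Group T] [Finite T] (hT : IsPGroup 2 T) {X : Type*} [Finite X]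
    (φ : T →* Equiv.Perm X) {f : ℕ} (hf : 0 < f) (hX : Nat.card X = 2 * f) :
    Nat.card T ≤ Nat.card φ.ker * 2 ^ (2 * f - 1) := by
  classical
  have := Fintype.ofFinite X
  have h1 := Subgroup.card_mul_index φ.ker
  rw [Subgroup.index_ker] at h1
  obtain ⟨k, h2⟩ := IsPGroup.iff_card.1 (hT.of_surjective φ.rangeRestrict φ.rangeRestrict_surjective)
  rw [← h1]
  refine Nat.mul_le_mul_left _ ?_
  rw [h2]
  refine Nat.pow_le_pow_right (by norm_num) (factorization_le hf ?_)
  rw [← h2, ← hX]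
  have h3 := Subgroup.card_subgroup_dvd_card φ.range
  rwa [Nat.card_perm] at h3

/-- **both together** -/
theorem false_of_three [Finite G] {ι : Type*} [Fintype ι] [Nonempty ι] (S : Sylow 2 G) {A : Subgroup G}
    (hA2 : IsPGroup 2 A) {a n : ι → G} (hAa : ∀ x ∈ A, ∀ i, x * a i = a i * x)
    (hAn : ∀ x ∈ A, ∀ i, x * n i = n i * x)
    (H : ∀ i, ∃ y ∈ o2 (centralizer ({n i} : Set G)), ∃ y' ∈ o2 (centralizer ({n i} : Set G)),
      (∀ j, j ≠ i → y * a j = a j * y ∧ y * n j = n j * y ∧ y' * a j = a j * y' ∧ y' * n j = n j * y') ∧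
      y * a i * y⁻¹ ≠ a i ∧ y' * a i * y'⁻¹ ≠ a i ∧ y * a i * y⁻¹ ≠ y' * a i * y'⁻¹)
    {X : Type*} [Finite X] (φ : (S : Subgroup G) →* Equiv.Perm X) (hX : Nat.card X = 2 * Fintype.card ι)
    (hker : ∀ s : (S : Subgroup G), φ s = 1 → (s : G) ∈ A) : False := by
  have hf : 0 < Fintype.card ι := Fintype.card_pos
  have h1 := card_le_of_three S hA2 hAa hAn H
  have h2 := card_le_of_action S.isPGroup' φ hf hX
  have h3 : Nat.card φ.ker ≤ Nat.card A :=
    Nat.card_le_card_of_injective (fun s : φ.ker => (⟨((s : (S : Subgroup G)) : G), hker s s.2⟩ : A))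
      fun s t h => Subtype.ext (Subtype.ext (congrArg (fun y : A => (y : G)) h))
  have h4 : 4 ^ Fintype.card ι * Nat.card A ≤ Nat.card A * 2 ^ (2 * Fintype.card ι - 1) :=
    h1.trans (h2.trans (Nat.mul_le_mul_right _ h3))
  have hA0 : 0 < Nat.card A := Nat.card_pos
  rw [mul_comm] at h4
  have h5 := Nat.le_of_mul_le_mul_left h4 hA0
  have h6 : (4 : ℕ) ^ Fintype.card ι = 2 ^ (2 * Fintype.card ι) := by
    rw [pow_mul]
    norm_num
  rw [h6] at h5
  have h7 := (Nat.pow_le_pow_iff_right (by norm_num : 1 < 2)).1 h5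
  omega

end Cfsg.Agent.Omega.IId.SymWr

end
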